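import Cfsg.Agent.FusionAgemo.Induction
import Cfsg.Agent.FusionClosed.StronglyClosed
import Cfsg.Agent.Transfer.Residual

/-!
# The hyperfocal subgroup acts on a strongly closed subgroup through `O^p(Aut_F(T)) Inn(T)`

`map_conj_eq_of_stronglyClosed`: modulo `O^p(Aut_F(T)) Inn(T)` every map of the system conjugates
the action on `T`; `hyperfocal_conj_mem`: the consequence for the hyperfocal subgroup.
-/

set_option autoImplicit false
set_option linter.style.haveILetI false

namespace CfsgLib.FusionHyperfocal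

open Cfsg Cfsg.FusionSystem CfsgLib.Fusion CfsgLib.FusionAgemo CfsgLib.FusionClosed

variable {Ω : Type*} [Group Ω] {S : Subgroup Ω} {F : FusionSystem S} {T : Subgroup Ω} {p : ℕ}

/-- The action of an element of `S` on a strongly closed `T`, in `Aut_F(T)`. -/
def actT (hT : F.StronglyClosed T) : S →* F.autGroup T where
  toFun s := ⟨T.normalizerMonoidHom ⟨s, mem_normalizer_stronglyClosed hT s.2⟩,
    autInducedBy_le_autGroup hT.1 (mem_autInducedBy_iff.2
      ⟨s, s.2, mem_normalizer_stronglyClosed hT s.2, fun _ => rfl⟩)⟩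
  map_one' := Subtype.ext (MulEquiv.ext fun x => Subtype.ext (by
    show (1 : Ω) * x * (1 : Ω)⁻¹ = x
    simp))
  map_mul' a b := Subtype.ext (MulEquiv.ext fun x => Subtype.ext (by
    show (a * b : Ω) * x * (a * b : Ω)⁻¹ = a * (b * x * (b : Ω)⁻¹) * (a : Ω)⁻¹
    group))

theorem actT_apply (hT : F.StronglyClosed T) (s : S) (x : T) :
    ((((actT hT s : F.autGroup T) : MulAut T) x : T) : Ω) = s * x * (s : Ω)⁻¹ := rfl

/-- `O^p(Aut_F(T)) Inn(T)` inside `Aut_F(T)`. -/
def kerT (F : FusionSystem S) (p : ℕ) (T : Subgroup Ω) : Subgroup (F.autGroup T) :=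
  pResidual p (F.autGroup T) ⊔ (Inn T).subgroupOf (F.autGroup T)

theorem kerT_normal : (kerT F p T).Normal := by
  haveI : ((Inn T).subgroupOf (F.autGroup T)).Normal := (Inn_normal T).subgroupOf _
  haveI : (pResidual p (F.autGroup T)).Normal := by
    refine ⟨fun n hn g => ?_⟩
    have h := CfsgLib.Transfer.map_pResidual_le (p := p) (MulAut.conj g).toMonoidHom
      (Subgroup.mem_map_of_mem _ hn)
    simpa using h
  exact Subgroup.sup_normal _ _

theorem map_conj_eq_of_stronglyClosed [Finite S] [Fact p.Prime] (hS : IsPGroup p S)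
    (hF : F.IsSaturated p) (hT : F.StronglyClosed T) {R : Type*} [Group R] (f : F.autGroup T →* R)
    (hf : ∀ t : S, (t : Ω) ∈ T → f (actT hT t) = 1) {P : Subgroup Ω} {φ : P →* Ω}
    (hφ : φ ∈ F.Hom P) :
    ∃ γ : R, ∀ (x : P), f (actT hT ⟨φ x, apply_mem hφ x⟩) =
      γ * f (actT hT ⟨x, le_left hφ x.2⟩) * γ⁻¹ := by
  let g : S →* R := f.comp (actT hT)
  let E : FusionSystem S :=
    { Hom := fun P => {φ | φ ∈ F.Hom P ∧ ∃ γ : R, ∀ (x : P) (h1 : φ x ∈ S) (h2 : (x : Ω) ∈ S),
        g ⟨φ x, h1⟩ = γ * g ⟨x, h2⟩ * γ⁻¹}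
      le_of_mem := fun h => F.le_of_mem h.1
      injective_of_mem := fun h => F.injective_of_mem h.1
      conj_mem := fun {P s} hP hs => ⟨F.conj_mem hP hs, g ⟨s, hs⟩, fun x h1 h2 => by
        rw [← map_inv, ← map_mul, ← map_mul]
        rfl⟩
      comp_mem := fun {P Q φ ψ} ⟨hφ, a, ha⟩ ⟨hψ, b, hb⟩ h =>
        ⟨F.comp_mem hφ hψ h, b * a, fun x h1 h2 => by
          have e1 := hb ⟨φ x, h x⟩ h1 (apply_mem hφ x)
          have e2 := ha x (apply_mem hφ x) h2
          simp only at e1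
          show g ⟨ψ ⟨φ x, h x⟩, h1⟩ = _
          rw [e1, e2]
          group⟩
      inv_mem := fun {P φ} ⟨hφ, a, ha⟩ => by
        obtain ⟨ψ, hψ, hv⟩ := F.inv_mem hφ
        refine ⟨ψ, ⟨hψ, a⁻¹, ?_⟩, hv⟩
        rintro ⟨_, x, rfl⟩ h1 h2
        have hx := ha x (apply_mem hφ x) (le_left hφ x.2)
        have e : (⟨ψ ⟨φ x, x, rfl⟩, h1⟩ : S) = ⟨x, le_left hφ x.2⟩ := Subtype.ext (hv x)
        show g ⟨ψ ⟨φ x, x, rfl⟩, h1⟩ = a⁻¹ * g ⟨φ x, h2⟩ * a⁻¹⁻¹
        rw [e, hx]
        group }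
  have hsub : F.IsSubsystemOf E := by
    refine isSubsystemOf_of_aut hS hF fun P hP habove α hα => ?_
    have hPS := hP.1
    haveI := finite_of_le hPS
    by_cases hTP : T ≤ P
    · have hiso : IsIso F α := (mem_autGroup_iff hPS).1 hα
      have hm := restrict_mem hiso hTP
      have hr : (restrictHom (P.subtype.comp α.toMonoidHom) hTP).range = T := by
        ext y
        constructor
        · rintro ⟨x, rfl⟩
          exact (aut_mem_stronglyClosed_iff hT hPS hα).2 x.2
        · intro hy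
          refine ⟨⟨(α.symm ⟨y, hTP hy⟩ : P), ?_⟩, ?_⟩
          · refine (aut_mem_stronglyClosed_iff hT hPS hα).1 ?_
            rw [MulEquiv.apply_symm_apply]
            exact hy
          · simp
      obtain ⟨β, hβ, hβv⟩ := exists_iso hm hr
      let b : F.autGroup T := ⟨β, hβ.mem_autGroup⟩
      refine ⟨hiso, f b, fun x h1 h2 => ?_⟩
      show f (actT hT _) = f b * f (actT hT _) * (f b)⁻¹
      rw [← map_inv, ← map_mul, ← map_mul]
      refine congrArg f (Subtype.ext (MulEquiv.ext fun y => Subtype.ext ?_))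
      obtain ⟨z, rfl⟩ := β.surjective y
      simp only [Subgroup.coe_mul, MulAut.mul_apply, InvMemClass.coe_inv, b, MulAut.inv_apply_self]
      rw [hβv, actT_apply, hβv]
      show ((α x : P) : Ω) * _ * ((α x : P) : Ω)⁻¹ = _
      simp only [restrictHom_apply, MonoidHom.coe_comp, Function.comp_apply,
        MulEquiv.coe_toMonoidHom, Subgroup.coe_subtype]
      rw [← Subgroup.coe_inv, ← Subgroup.coe_mul, ← Subgroup.coe_mul, ← map_inv, ← map_mul, ← map_mul]
      exact congrArg (fun w : P => ((α w : P) : Ω)) (Subtype.ext (by rw [actT_apply]; simp))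
    obtain ⟨hPa, hPr⟩ := automized_receptive hS hF hP
    have hlt : P < T ⊔ P := lt_of_le_of_ne le_sup_right fun h => hTP (h ▸ le_sup_left)
    have hMS : T ⊔ P ≤ S := sup_le hT.1 hPS
    haveI := finite_of_le hMS
    obtain ⟨m, hm, hmP⟩ := SetLike.exists_of_lt
      (lt_normalizerIn (p := p) (hS.to_le hMS) hlt)
    obtain ⟨c, hc, x, hx, hcx⟩ : ∃ c ∈ T, ∃ x ∈ P, c * x = m := by
      have hmem : m ∈ ((T ⊔ P : Subgroup Ω) : Set Ω) := hm.1
      rw [Subgroup.coe_mul_of_right_le_normalizer_left _ _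
        (fun y hy => mem_normalizer_stronglyClosed hT (hPS hy))] at hmem
      exact hmem
    have hcN : c ∈ normalizerIn S P := by
      refine ⟨hT.1 hc, ?_⟩
      have e : c = m * x⁻¹ := by rw [← hcx]; group
      rw [e]
      exact mul_mem hm.2 (Subgroup.inv_mem _ (Subgroup.le_normalizer hx))
    have hcP : c ∉ P := fun h => hmP (hcx ▸ P.mul_mem h hx)
    have hinv : ∀ k : F.autGroup P, ∀ y : P, (y : Ω) ∈ T → (((k : MulAut P) y : P) : Ω) ∈ T :=
      fun k y hy => (aut_mem_stronglyClosed_iff hT hPS k.2).2 hy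
    let K : Subgroup (F.autGroup P) :=
      { carrier := {k | ∀ y : P, ((y⁻¹ * (k : MulAut P) y : P) : Ω) ∈ T}
        one_mem' := fun y => by simp
        mul_mem' := fun {k l} hk hl y => by
          have e : y⁻¹ * ((k * l : F.autGroup P) : MulAut P) y =
              (y⁻¹ * (k : MulAut P) y) * (k : MulAut P) (y⁻¹ * (l : MulAut P) y) := by
            simp [mul_assoc]
          rw [e]
          exact T.mul_mem (hk y) (hinv k _ (hl y))
        inv_mem' := fun {k} hk y => by
          have h := T.inv_mem (hk ((k : MulAut P).symm y))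
          simp only [MulEquiv.apply_symm_apply] at h
          simpa using h }
    have hKn : K.Normal := ⟨fun k hk a y => by
      have h := hinv a _ (hk ((a : MulAut P).symm y))
      simpa [MulAut.mul_apply, MulAut.inv_def] using h⟩
    have hKE : ∀ k ∈ K, IsIso E ((k : F.autGroup P) : MulAut P) := by
      intro k hk
      refine ⟨(mem_autGroup_iff hPS).1 k.2, 1, fun y h1 h2 => ?_⟩
      rw [one_mul, inv_one, mul_one]
      have e : (⟨((((k : F.autGroup P) : MulAut P) y : P) : Ω), h1⟩ : S) =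
          ⟨y, h2⟩ * ⟨((y⁻¹ * (k : MulAut P) y : P) : Ω), hT.1 (hk y)⟩ :=
        Subtype.ext (by simp)
      show g ⟨((((k : F.autGroup P) : MulAut P) y : P) : Ω), h1⟩ = g ⟨y, h2⟩
      rw [e, map_mul]
      show _ * f (actT hT _) = _
      rw [hf ⟨((y⁻¹ * (k : MulAut P) y : P) : Ω), hT.1 (hk y)⟩ (hk y), mul_one]
    let cm : MulAut P := P.normalizerMonoidHom ⟨c, hcN.2⟩
    have hcm : cm ∈ F.autGroup P :=
      autInducedBy_le_autGroup hPS (mem_autInducedBy_iff.2 ⟨c, hcN.1, hcN.2, fun y => rfl⟩)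
    refine aut_mem_of_normal hS hPa hPr habove K hKn hKE hcN hcP (c := ⟨cm, hcm⟩) ?_
      (fun y => rfl) α hα
    intro y
    show ((y⁻¹ * cm y : P) : Ω) ∈ T
    have e : ((y⁻¹ * cm y : P) : Ω) = ((y : Ω)⁻¹ * c * (y : Ω)) * c⁻¹ := by
      show (y : Ω)⁻¹ * (c * (y : Ω) * c⁻¹) = _
      group
    rw [e]
    refine T.mul_mem ?_ (T.inv_mem hc)
    have := conj_mem_stronglyClosed hT (inv_mem (hPS y.2)) hc
    rwa [inv_inv] at this
  obtain ⟨-, γ, hγ⟩ := hsub P hφ
  exact ⟨γ, fun x => hγ x _ _⟩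

theorem hyperfocal_conj_mem [Finite S] [Fact p.Prime] (hS : IsPGroup p S) (hF : F.IsSaturated p)
    (hT : F.StronglyClosed T) {x : Ω} (hx : x ∈ F.hyperfocalSubgroup p) :
    ∃ hxS : x ∈ S, actT hT ⟨x, hxS⟩ ∈ kerT F p T := by
  haveI := finite_of_le hT.1
  haveI := kerT_normal (F := F) (p := p) (T := T)
  let f := QuotientGroup.mk' (kerT F p T)
  have hQp : IsPGroup p (F.autGroup T ⧸ kerT F p T) := by
    refine IsPGroup.of_surjective ?_ (QuotientGroup.map (pResidual p (F.autGroup T)) (kerT F p T)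
      (MonoidHom.id _) (fun a ha => (le_sup_left : _ ≤ kerT F p T) ha))
      (fun q => by
        induction q using QuotientGroup.induction_on with
        | _ a => exact ⟨a, rfl⟩)
    exact CfsgLib.Transfer.isPGroup_quotient_pResidual
  have hf : ∀ t : S, (t : Ω) ∈ T → f (actT hT t) = 1 := fun t ht =>
    (QuotientGroup.eq_one_iff (N := kerT F p T) _).2 ((le_sup_right : _ ≤ kerT F p T)
      (Subgroup.mem_subgroupOf.2 ⟨⟨t, ht⟩, MulEquiv.ext fun y => rfl⟩))
  suffices h : ∃ hxS : x ∈ S, f (actT hT ⟨x, hxS⟩) = 1 by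
    obtain ⟨hxS, h⟩ := h
    exact ⟨hxS, (QuotientGroup.eq_one_iff (N := kerT F p T) _).1 h⟩
  induction hx using Subgroup.closure_induction with
  | one => exact ⟨S.one_mem, by rw [show (⟨1, S.one_mem⟩ : S) = 1 from rfl, map_one, map_one]⟩
  | mul a b _ _ ha hb =>
    obtain ⟨ha1, ha2⟩ := ha
    obtain ⟨hb1, hb2⟩ := hb
    refine ⟨S.mul_mem ha1 hb1, ?_⟩
    rw [show (⟨a * b, S.mul_mem ha1 hb1⟩ : S) = ⟨a, ha1⟩ * ⟨b, hb1⟩ from rfl, map_mul, map_mul,
      ha2, hb2, one_mul]
  | inv a _ ha =>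
    obtain ⟨ha1, ha2⟩ := ha
    refine ⟨S.inv_mem ha1, ?_⟩
    rw [show (⟨a⁻¹, S.inv_mem ha1⟩ : S) = ⟨a, ha1⟩⁻¹ from rfl, map_inv, map_inv, ha2, inv_one]
  | mem y hy =>
    obtain ⟨P, α, z, hP, hα, rfl⟩ := hy
    haveI := finite_of_le hP
    let g : P →* (F.autGroup T ⧸ kerT F p T) := (f.comp (actT hT)).comp (Subgroup.inclusion hP)
    suffices hall : ∀ w : P, g ((α : MulAut P) w) = g w by
      refine ⟨hP (z⁻¹ * (α : MulAut P) z).2, ?_⟩
      show g (z⁻¹ * (α : MulAut P) z) = 1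
      rw [map_mul, map_inv, hall, inv_mul_cancel]
    clear z
    refine Subgroup.closure_induction
      (p := fun (a : F.autGroup P) _ => ∀ w : P, g ((a : MulAut P) w) = g w) ?_ (fun w => rfl)
      (fun a b _ _ ha hb w => ?_) (fun a _ ha w => ?_) hα
    · intro a ha w
      obtain ⟨γ, hγ⟩ := map_conj_eq_of_stronglyClosed hS hF hT f hf ((mem_autGroup_iff hP).1 a.2)
      have hγ' : ∀ v : P, g ((a : MulAut P) v) = γ * g v * γ⁻¹ := fun v => hγ v
      have hiter : ∀ (k : ℕ) (v : P), g (((a : MulAut P) ^ k) v) = γ ^ k * g v * (γ ^ k)⁻¹ := by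
        intro k
        induction k with
        | zero => intro v; simp
        | succ k ih =>
          intro v
          rw [pow_succ', MulAut.mul_apply, hγ', ih, pow_succ']
          group
      have hcent : γ ^ orderOf a ∈ Subgroup.centralizer ({g w} : Set _) := by
        have h1 := hiter (orderOf a) w
        rw [← SubgroupClass.coe_pow, pow_orderOf_eq_one] at h1
        simp only [OneMemClass.coe_one, MulAut.one_apply] at h1
        rw [Subgroup.mem_centralizer_singleton_iff]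
        exact (eq_mul_inv_iff_mul_eq.1 h1).symm
      obtain ⟨j, hj⟩ := hQp γ
      have hγc : γ ∈ Subgroup.centralizer ({g w} : Set _) := by
        obtain ⟨u, v, huv⟩ : IsCoprime ((orderOf a : ℕ) : ℤ) ((p ^ j : ℕ) : ℤ) :=
          Nat.isCoprime_iff_coprime.2 (Nat.Coprime.pow_right j ha)
        have e : γ = (γ ^ orderOf a) ^ u * (γ ^ (p ^ j)) ^ v := by
          rw [← zpow_natCast γ (orderOf a), ← zpow_natCast γ (p ^ j), ← zpow_mul, ← zpow_mul,
            ← zpow_add, mul_comm ((orderOf a : ℕ) : ℤ), mul_comm ((p ^ j : ℕ) : ℤ), huv, zpow_one]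
        rw [e, hj, one_zpow, mul_one]
        exact Subgroup.zpow_mem _ hcent u
      rw [Subgroup.mem_centralizer_singleton_iff] at hγc
      rw [hγ', hγc, mul_inv_cancel_right]
    · show g ((a : MulAut P) ((b : MulAut P) w)) = g w
      rw [ha, hb]
    · show g ((a : MulAut P).symm w) = g w
      conv_rhs => rw [← (a : MulAut P).apply_symm_apply w]
      exact (ha _).symm

end CfsgLib.FusionHyperfocal
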